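import Cfsg.Agent.Alt12Inv.Seven.Inner

/-!
All involutions of the copy of `Sp₆(2)` have their centralizers inside, so it is the whole group.
-/

set_option autoImplicit false
set_option linter.unusedSectionVars false
set_option linter.style.haveILetI false

namespace CfsgLib.Alt12Inv

open Subgroup

universe u

variable {G : Type u} [Group G] [Finite G] {α : G} {F : Frame α}

/-- The centralizer of the translation of a code is inside. -/
def Frame.Model.Safe (M : F.Model) (v : Fin 64) : Prop := ∀ c, Commute c (F.a v) → c ∈ M.H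

theorem Frame.IsShort.safe_short (h : F.IsShort) (M : F.Model) {v : Fin 64} (hv : Short v) : M.Safe v :=
  fun _ hc => h.cent_member M (M.a_mem v) ((h v).2 hv) hc

theorem pair_cases {p q : Fin 64} (hp : p ∈ short₇) (hq : q ∈ short₇) (hne : p ≠ q) {i j : Fin 31}
    (hc : rt i * aC (vadd p q) = aC (vadd p q) * rt i) (hj : rt i * aC (vadd p q) = rt j) :
    rt i = aC p ∨ rt i = aC q := by
  have key : ∀ {p q : Fin 64}, p ∈ short₇ → q ∈ short₇ → p.1 < q.1 →
      rt i * aC (vadd p q) = aC (vadd p q) * rt i → rt i * aC (vadd p q) = rt j →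
      rt i = aC p ∨ rt i = aC q := by
    intro p q hp hq hlt hc hj
    have app : ∀ {a b : ↥C₀}, a = b → ∀ x, (a : Equiv.Perm (Fin 12)) x = (b : Equiv.Perm (Fin 12)) x :=
      fun e x => by rw [e]
    rcases pair_chk p hp q hq hlt i (eqFun_iff.2 (app hc)) with e | e | e
    · exact Or.inl (Subtype.ext (Equiv.ext (eqFun_iff.1 e)))
    · exact Or.inr (Subtype.ext (Equiv.ext (eqFun_iff.1 e)))
    · exact absurd (eqFun_iff.2 (app hj)) (Bool.eq_false_iff.1 (e j))
  rcases lt_trichotomy p.1 q.1 with hlt | heq | hgt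
  · exact key hp hq hlt hc hj
  · exact absurd (Fin.ext heq) hne
  · rw [vadd_symm] at hc hj
    exact (key hq hp hgt hc hj).symm

theorem Frame.IsShort.safe_pair (h : F.IsShort) (M : F.Model) {p q : Fin 64} (hp : Short p) (hq : Short q)
    (hne : p ≠ q) : M.Safe (vadd p q) := by
  intro c hc
  by_contra hout
  set m := c * F.a p * c⁻¹ with hmdef
  have hm : IsConj α m := ((h p).2 hp).trans (isConj_iff.2 ⟨c, rfl⟩)
  have hmH : m ∉ M.H := fun e => hout (h.stab_member M (M.a_mem p) ((h p).2 hp) e)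
  set w := F.a (vadd p q) with hw
  have hcw : c * w * c⁻¹ = w := mul_inv_eq_of_eq_mul hc.eq
  have hmw : Commute m w := by
    have h1 := (F.a_comm p (vadd p q)).map (MulAut.conj c).toMonoidHom
    simpa only [MulEquiv.coe_toMonoidHom, MulAut.conj_apply, ← hw, hcw] using h1
  have hmq : m * w = c * F.a q * c⁻¹ := by
    calc m * w = c * F.a p * c⁻¹ * (c * w * c⁻¹) := by rw [hcw]
      _ = c * (F.a p * w) * c⁻¹ := by group
      _ = _ := by rw [hw, ← F.a_mul, ← mul_assoc (F.a p), F.a_sq, one_mul]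
  have hstep : ∀ l, Short l → l ≠ p → l ≠ q → Commute (F.a (vadd l p)) m := by
    intro l hl hlp hlq
    obtain ⟨y, r, -, hy, hr, hz, hly, hlym⟩ := h.exists_split M hm (M.a_mem l) ((h l).2 hl)
    have hrw : Commute w r := hz w (F.a_comm _ l) hmw.symm
    have hyw : Commute y w := by
      rw [← hr]
      exact (hrw.symm.mul_left hmw).mul_left hrw.symm.inv_left
    have hyw' : IsConj α (y * w) := by
      refine (((h q).2 hq).trans (isConj_iff.2 ⟨c, hmq.symm⟩) : IsConj α (m * w)).trans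
        (isConj_iff.2 ⟨r, ?_⟩)
      rw [← hr]
      calc r * (m * w) * r⁻¹ = r * m * (w * r⁻¹) := by group
        _ = r * m * (r⁻¹ * w) := by rw [hrw.inv_right.eq]
        _ = _ := by group
    obtain ⟨σ, hσ⟩ := h.sym_at hl
    obtain ⟨p', hp', rfl⟩ := h.pre_six σ hσ hp hlp
    obtain ⟨q', hq', rfl⟩ := h.pre_six σ hσ hq hlq
    have hwl : Commute w (F.a l) := F.a_comm _ _
    obtain ⟨i, hi⟩ := h.member_φ σ hσ hy hly.symm
    obtain ⟨j, hj⟩ := h.member_φ σ hσ hyw' (hly.symm.mul_left hwl)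
    have hwφ : w = σ.φ (aC (vadd p' q')) := by rw [hw, σ.φ_a, σ.add]
    have s7 : ∀ v ∈ six₆, v ∈ short₇ := fun v hv => (short_iff v).1 ((six_iff v).1 hv).1
    have hpq' : p' ≠ q' := fun e => hne (by rw [e])
    rcases pair_cases (s7 p' hp') (s7 q' hq') hpq' (i := i) (j := j)
      (σ.φ_injective (by rw [map_mul, map_mul, ← hi, ← hwφ]; exact hyw.eq))
      (σ.φ_injective (by rw [map_mul, ← hi, ← hwφ, ← hj])) with e | e
    · rw [hi, e, σ.φ_a, F.a_mul] at hlym
      exact hlym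
    · rw [hi, e, σ.φ_a] at hlym
      have h1 : F.a (vadd l (σ.s p')) = F.a l * F.a (σ.s q') * w := by
        rw [hw, ← F.a_mul, ← F.a_mul, mul_assoc (F.a l), (F.a_comm (σ.s p') (σ.s q')).eq,
          ← mul_assoc (F.a (σ.s q')), F.a_sq, one_mul]
      rw [h1]
      exact hlym.mul_left hmw.symm
  have hfold : ∀ L : List (Fin 64), (∀ l ∈ L, Short l ∧ l ≠ p ∧ l ≠ q) → ∀ s, Commute (F.a s) m →
      Commute (F.a (L.foldl (fun s l => vadd s (vadd l p)) s)) m := by
    intro L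
    induction L with
    | nil => exact fun _ s hs => hs
    | cons l L ih =>
      intro hL s hs
      refine ih (fun l' hl' => hL l' (List.mem_cons_of_mem _ hl')) _ ?_
      obtain ⟨h1, h2, h3⟩ := hL l List.mem_cons_self
      rw [← F.a_mul]
      exact hs.mul_left (hstep l h1 h2 h3)
  have hfin := hfold (short₇.filter fun l => decide (l ≠ p ∧ l ≠ q))
    (fun l hl => by
      rw [List.mem_filter, decide_eq_true_iff] at hl
      exact ⟨(short_iff l).2 hl.1, hl.2⟩) (vadd p q) hmw.symm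
  rw [even_span p ((short_iff p).1 hp) q ((short_iff q).1 hq) hne] at hfin
  exact hmH (h.safe_short M hp m hfin.symm)

theorem Frame.IsShort.safe_prod (h : F.IsShort) (M : F.Model) {l y : G} (hlH : l ∈ M.H) (hl : IsConj α l)
    (hyH : y ∈ M.H) (hy : IsConj α y) (hne : y ≠ l) (hly : Commute l y) {c : G} (hc : Commute c (l * y)) :
    c ∈ M.H := by
  obtain ⟨k, hk, hkl⟩ := h.member_conj M hlH hl
  have hy' : Commute (k⁻¹ * y * k) α := by
    have h1 := hly.symm.map (MulAut.conj k⁻¹).toMonoidHom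
    simp only [MulEquiv.coe_toMonoidHom, MulAut.conj_apply, inv_inv] at h1
    rwa [← hkl, show k⁻¹ * (k * α * k⁻¹) * k = α by group] at h1
  obtain ⟨x, hx⟩ := (F.mem_range (g := k⁻¹ * y * k)).2 hy'
  obtain ⟨i, rfl⟩ := h.member_rt (x := x) (hx ▸ hy.trans (isConj_iff.2 ⟨k⁻¹, by rw [inv_inv]⟩))
  obtain ⟨s21, s2, -⟩ := short_facts
  have hi : i.1 ≠ 30 := fun e => hne (by
    rw [show i = rOf 21 from Fin.ext e, rt_eq_aC s21] at hx
    rw [← hkl, ← F.centre, hx]; group)
  obtain ⟨d, hd⟩ := rt_conj i hi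
  rw [show (0 : Fin 31) = rOf 2 from rfl, rt_eq_aC s2] at hd
  have e : l * y = (k * F.ι d) * F.a (vadd 21 2) * (k * F.ι d)⁻¹ := by
    rw [← F.a_mul, F.a_centre]
    have e1 : F.ι d * F.a 2 * (F.ι d)⁻¹ = k⁻¹ * y * k := by rw [← hx, ← hd, F.ι_conj]; rfl
    calc l * y = k * (α * (k⁻¹ * y * k)) * k⁻¹ := by rw [← hkl]; group
      _ = k * (F.ι d * (F.ι d)⁻¹ * α * (F.ι d * F.a 2 * (F.ι d)⁻¹)) * k⁻¹ := by rw [e1]; group
      _ = k * (F.ι d * (α * (F.ι d)⁻¹) * (F.ι d * F.a 2 * (F.ι d)⁻¹)) * k⁻¹ := by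
        rw [← (F.comm_centre d).inv_left.eq]; group
      _ = _ := by group
  rw [e] at hc
  have hK : k * F.ι d ∈ M.H := mul_mem hk (M.mem_of_comm (F.comm_centre d))
  generalize k * F.ι d = K at hc hK
  have h1 := hc.map (MulAut.conj K⁻¹).toMonoidHom
  simp only [MulEquiv.coe_toMonoidHom, MulAut.conj_apply, inv_inv] at h1
  rw [show K⁻¹ * (K * F.a (vadd 21 2) * K⁻¹) * K = F.a (vadd 21 2) by group] at h1
  have h2 := mul_mem (mul_mem hK (h.safe_pair M s21 s2 (by decide) _ h1)) (inv_mem hK)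
  rwa [show K * (K⁻¹ * c * K) * K⁻¹ = c by group] at h2

theorem Frame.IsShort.safe_triple (h : F.IsShort) (M : F.Model) {p q r : Fin 64} (hp : Short p) (hq : Short q)
    (hr : Short r) (hpq : p ≠ q) (hpr : p ≠ r) (hqr : q ≠ r) : M.Safe (vadd (vadd p q) r) := by
  intro c hc
  by_contra hout
  set v := vadd (vadd p q) r with hv
  set m := c * F.a p * c⁻¹ with hmdef
  have hm : IsConj α m := ((h p).2 hp).trans (isConj_iff.2 ⟨c, rfl⟩)
  have hmH : m ∉ M.H := fun e => hout (h.stab_member M (M.a_mem p) ((h p).2 hp) e)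
  have hcv : c * F.a v * c⁻¹ = F.a v := mul_inv_eq_of_eq_mul hc.eq
  have hmv : Commute m (F.a v) := by
    have h1 := (F.a_comm p v).map (MulAut.conj c).toMonoidHom
    simpa only [MulEquiv.coe_toMonoidHom, MulAut.conj_apply, hcv] using h1
  obtain ⟨l, hl, hlp, hlq, hlr, hmask⟩ := four_mask p ((short_iff p).1 hp) q ((short_iff q).1 hq) r
    ((short_iff r).1 hr) hpq hpr hqr
  have hls := (short_iff l).2 hl
  obtain ⟨y, t, hyH, hy, ht, hz, hly, hlym⟩ := h.exists_split M hm (M.a_mem l) ((h l).2 hls)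
  by_cases hyl : y = F.a l
  · have htv : Commute (F.a v) t := hz _ (F.a_comm v l) hmv.symm
    have e1 : F.a v * m = c * F.a (vadd q r) * c⁻¹ := by
      calc F.a v * m = c * F.a v * c⁻¹ * (c * F.a p * c⁻¹) := by rw [hcv]
        _ = c * (F.a v * F.a p) * c⁻¹ := by group
        _ = _ := by
          rw [(F.a_comm v p).eq, hv, ← F.a_mul, ← F.a_mul, ← F.a_mul q r, mul_assoc (F.a p) (F.a q),
            ← mul_assoc (F.a p) (F.a p), F.a_sq, one_mul]
    have e2 : F.a (vadd v l) = t * (F.a v * m) * t⁻¹ := by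
      rw [← F.a_mul, ← hyl, ← ht, ← mul_assoc (F.a v) (t * m), ← mul_assoc (F.a v) t, htv.eq]
      group
    have hc2 : IsConj (F.a (vadd q r)) (F.a (vadd v l)) :=
      (isConj_iff.2 ⟨c, rfl⟩ : IsConj (F.a (vadd q r)) (c * F.a (vadd q r) * c⁻¹)).trans
        (isConj_iff.2 ⟨t, by rw [← e1, e2]⟩)
    obtain ⟨n, hn, hne⟩ := F.fusion hc2
    obtain ⟨σ, rfl⟩ := F.exists_sym hn
    rw [σ.spec] at hne
    have h1 := F.a_injective hne
    rw [σ.add] at h1
    have h2 := pair_mask (σ.s q) ((short_iff _).1 ((σ.short_iff' h q).2 hq)) (σ.s r)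
      ((short_iff _).1 ((σ.short_iff' h r).2 hr)) (fun e => hqr (σ.bij.1 e))
    rw [h1, hv, hmask] at h2
    exact Bool.noConfusion h2
  · exact hmH (h.safe_prod M (M.a_mem l) ((h l).2 hls) hyH hy hyl hly hlym.symm)

theorem Frame.IsShort.safe_invol (h : F.IsShort) (M : F.Model) {x : G} (hxH : x ∈ M.H) (hx : x * x = 1)
    (hx1 : x ≠ 1) {c : G} (hc : Commute c x) : c ∈ M.H := by
  obtain ⟨k, hk, v, hv⟩ := M.invol_conj_a hxH hx
  have hv0 : v ≠ 0 := by
    rintro rfl
    rw [F.a_zero] at hv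
    exact hx1 (conj_eq_one_iff.1 hv)
  have hs : M.Safe v := by
    rcases sum_three v hv0 with e | ⟨p, hp, q, hq, hne, rfl⟩ | ⟨p, hp, q, hq, r, hr, h1, h2, h3, rfl⟩
    · exact h.safe_short M ((short_iff v).2 e)
    · exact h.safe_pair M ((short_iff p).2 hp) ((short_iff q).2 hq) hne
    · exact h.safe_triple M ((short_iff p).2 hp) ((short_iff q).2 hq) ((short_iff r).2 hr) h1 h2 h3
  have h1 := hc.map (MulAut.conj k).toMonoidHom
  simp only [MulEquiv.coe_toMonoidHom, MulAut.conj_apply] at h1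
  rw [hv] at h1
  have h2 := mul_mem (mul_mem (inv_mem hk) (hs _ h1)) hk
  rwa [show k⁻¹ * (k * c * k⁻¹) * k = c by group] at h2

theorem Frame.IsShort.model_top (h : F.IsShort) (M : F.Model) : M.H = ⊤ := by
  rw [eq_top_iff]
  intro g _
  by_contra hg
  set m := g * α * g⁻¹ with hmdef
  have hαH : α ∈ M.H := M.mem_of_comm (Commute.refl α)
  have hmH : m ∉ M.H := fun e => hg (h.stab_member M hαH (IsConj.refl α) e)
  have hmα : IsConj α m := isConj_iff.2 ⟨g, rfl⟩
  have hm2 : orderOf m = 2 := CfsgLib.Invol.orderOf_eq_two (member_sq hmα F) fun e => hmH (e ▸ one_mem _)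
  have hJ1 : F.a 10 ≠ 1 := fun e => absurd (F.a_injective (e.trans F.a_zero.symm)) (by decide)
  have hJ : orderOf (F.a 10) = 2 := CfsgLib.Invol.orderOf_eq_two (F.a_sq 10) hJ1
  obtain ⟨w, hw, hwJ, hwm⟩ := CfsgLib.Invol.exists_commuting_invol hJ hm2 fun e => by
    have h1 := (h 10).1 (hmα.trans e.symm)
    revert h1; unfold Short; decide
  have hwH := h.safe_invol M (M.a_mem 10) (F.a_sq 10) hJ1 hwJ
  exact hmH (h.safe_invol M hwH (CfsgLib.Invol.mul_self_eq_one hw) (CfsgLib.Invol.ne_one hw) hwm.symm)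

/-- The group with seven fused codes is `Sp₆(2)`. -/
theorem short_iso {G : Type u} [Group G] [Finite G] {α : G} (hα : orderOf α = 2) (F : Frame α)
    (h : ∀ v, F.Fused v ↔ Short v) :
    ∃ (K : Type) (_ : Field K) (_ : Fintype K), Fintype.card K = 2 ∧ Nonempty (G ≃* Cfsg.PSp 3 K) := by
  haveI : Fact (Nat.Prime 2) := ⟨Nat.prime_two⟩
  obtain ⟨M⟩ := Frame.IsShort.exists_model (F := F) h
  have hb : Function.Bijective M.ψ :=
    ⟨M.inj, MonoidHom.range_eq_top.1 (Frame.IsShort.model_top (F := F) h M)⟩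
  refine ⟨ZMod 2, inferInstance, inferInstance, ZMod.card 2, ⟨(MulEquiv.ofBijective M.ψ hb).symm.trans ?_⟩⟩
  exact MulEquiv.ofBijective (QuotientGroup.mk' (center (CfsgLib.SpPres.Spn (ZMod 2) 3)))
    ⟨(MonoidHom.ker_eq_bot_iff _).1 (by rw [QuotientGroup.ker_mk', psp_center]),
      QuotientGroup.mk'_surjective _⟩

end CfsgLib.Alt12Inv
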