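import Cfsg.Agent.Alt12Inv.Seven.Roots
import Mathlib.GroupTheory.Perm.Sign

/-!
The six roots of the diagram D₆ generate the centralizer.
-/

set_option autoImplicit false
set_option linter.unusedSectionVars false
set_option linter.style.haveILetI false
set_option maxRecDepth 100000

namespace CfsgLib.Alt12Inv

open Equiv

/-- The chain of roots on adjacent pairs. -/
def chain (c : Fin 31) (i : Fin 5) : Fin 31 := ([0, 10, 18, 24, c] : List (Fin 31)).getD i.1 0

theorem chain_pair : ∀ c ∈ ([28, 29] : List (Fin 31)), ∀ (i : Fin 5) (x : Fin 6),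
    pairFun (rtEl (chain c i)) x = swap i.castSucc i.succ x := by decide +kernel

/-- The flip of two adjacent pairs. -/
def adjFlip (i : Fin 5) : ↥C₀ :=
  ⟨flipEl i.castSucc i.succ, flipEl_mem _ _ (ne_of_lt i.castSucc_lt_succ)⟩

theorem adjFlip_zero : ∀ x, rtFun 0 (rtFun 1 x) = flipFun (0 : Fin 5).castSucc (0 : Fin 5).succ x := by
  decide +kernel

theorem adjFlip_succ : ∀ c ∈ ([28, 29] : List (Fin 31)), ∀ (i : Fin 4) (x : Fin 12),
    rtFun (chain c i.castSucc) (rtFun (chain c i.succ)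
      (flipFun i.castSucc.castSucc i.castSucc.succ (rtFun (chain c i.succ) (rtFun (chain c i.castSucc) x)))) =
    flipFun i.succ.castSucc i.succ.succ x := by decide +kernel

/-- The flip given by a mask. -/
def maskFun (m : Fin 64) (x : Fin 12) : Fin 12 := if Nat.testBit m.1 (x.1 / 2) then t₀ x else x

theorem maskFun_invol : ∀ m x, maskFun m (maskFun m x) = x := by decide +kernel

/-- The flip given by a mask, as a permutation. -/
def maskEl (m : Fin 64) : Perm (Fin 12) := ⟨maskFun m, maskFun m, maskFun_invol m, maskFun_invol m⟩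

theorem mask_even : ∀ m, Perm.sign (maskEl m) = 1 →
    ∃ b0 b1 b2 b3 b4 : Bool, ∀ x,
      (if b0 then flipFun (0 : Fin 5).castSucc (0 : Fin 5).succ else id)
        ((if b1 then flipFun (1 : Fin 5).castSucc (1 : Fin 5).succ else id)
          ((if b2 then flipFun (2 : Fin 5).castSucc (2 : Fin 5).succ else id)
            ((if b3 then flipFun (3 : Fin 5).castSucc (3 : Fin 5).succ else id)
              ((if b4 then flipFun (4 : Fin 5).castSucc (4 : Fin 5).succ else id) x)))) = maskFun m x := by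
  decide +kernel

theorem pair_repr : ∀ x : Fin 12,
    (⟨2 * (x.1 / 2), by have := x.2; omega⟩ : Fin 12) = x ∨
      (⟨2 * (x.1 / 2), by have := x.2; omega⟩ : Fin 12) = t₀ x := by decide +kernel

theorem flip_mask {g : ↥C₀} (h : pairHom g = 1) : ∃ m, (g : Perm (Fin 12)) = maskEl m := by
  have hflip : ∀ x, (g : Perm (Fin 12)) x = x ∨ (g : Perm (Fin 12)) x = t₀ x := by
    intro x
    have ht : ∀ y, (g : Perm (Fin 12)) (t₀ y) = t₀ ((g : Perm (Fin 12)) y) := fun y =>
      congrArg (fun z : Perm (Fin 12) => z y) (mem_C₀.1 g.2).2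
    have h2 := congrArg (fun z : Perm (Fin 6) => (z ⟨x.1 / 2, by have := x.2; omega⟩).1) h
    have half : ∀ y : Fin 12, (t₀ y).1 / 2 = y.1 / 2 := by decide +kernel
    have same : ∀ y z : Fin 12, y.1 / 2 = z.1 / 2 → y = z ∨ y = t₀ z := by decide +kernel
    refine same _ _ ?_
    have h3 : ((g : Perm (Fin 12)) ⟨2 * (x.1 / 2), by have := x.2; omega⟩).1 / 2 = x.1 / 2 := h2
    rcases pair_repr x with e | e
    · rwa [e] at h3
    · rwa [e, ht, half] at h3
  let b : Fin 6 → Bool := fun i => decide ((g : Perm (Fin 12)) ⟨2 * i.1, by have := i.2; omega⟩ ≠ ⟨2 * i.1, by have := i.2; omega⟩)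
  obtain ⟨m, hm⟩ : ∃ m : Fin 64, ∀ i : Fin 6, Nat.testBit m.1 i.1 = b i := by
    have key : ∀ a0 a1 a2 a3 a4 a5 : Bool, ∃ m : Fin 64, [Nat.testBit m.1 0, Nat.testBit m.1 1,
        Nat.testBit m.1 2, Nat.testBit m.1 3, Nat.testBit m.1 4, Nat.testBit m.1 5] =
          [a0, a1, a2, a3, a4, a5] := by decide +kernel
    obtain ⟨m, hm⟩ := key (b 0) (b 1) (b 2) (b 3) (b 4) (b 5)
    simp only [List.cons.injEq, and_true] at hm
    obtain ⟨a0, a1, a2, a3, a4, a5⟩ := hm
    exact ⟨m, fun i => by fin_cases i <;> assumption⟩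
  refine ⟨m, Equiv.ext fun x => ?_⟩
  show _ = if Nat.testBit m.1 (x.1 / 2) then t₀ x else x
  rw [show Nat.testBit m.1 (x.1 / 2) = b ⟨x.1 / 2, by have := x.2; omega⟩ from hm ⟨x.1 / 2, by have := x.2; omega⟩]
  have ht : ∀ y, (g : Perm (Fin 12)) (t₀ y) = t₀ ((g : Perm (Fin 12)) y) := fun y =>
    congrArg (fun z : Perm (Fin 12) => z y) (mem_C₀.1 g.2).2
  have tt : ∀ y, t₀ (t₀ y) = y ∧ t₀ y ≠ y := by decide +kernel
  show _ = if decide (_ ≠ _) = true then t₀ x else x
  simp only [decide_eq_true_eq]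
  rcases pair_repr x with e | e <;> simp only [e]
  · rcases hflip x with h1 | h1
    · rw [if_neg (not_not.2 h1), h1]
    · rw [if_pos (by rw [h1]; exact (tt x).2), h1]
  · rw [ht]
    rcases hflip x with h1 | h1
    · rw [if_neg (by rw [not_not, h1]), h1]
    · rw [if_pos (by rw [h1, (tt x).1]; exact (tt x).2.symm), h1]

/-- The six roots generate. -/
theorem chain_closure {c : Fin 31} (hc : c ∈ ([28, 29] : List (Fin 31))) (K : Subgroup ↥C₀)
    (h1 : rt 1 ∈ K) (hr : ∀ i, rt (chain c i) ∈ K) : K = ⊤ := by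
  have hflip : ∀ i, adjFlip i ∈ K := by
    intro i
    induction i using Fin.induction with
    | zero =>
      have e : rt (chain c 0) * rt 1 = adjFlip 0 := Subtype.ext (Equiv.ext adjFlip_zero)
      rw [← e]; exact mul_mem (hr 0) h1
    | succ i ih =>
      have e : rt (chain c i.castSucc) * (rt (chain c i.succ) * (adjFlip i.castSucc *
          (rt (chain c i.succ) * rt (chain c i.castSucc)))) = adjFlip i.succ :=
        Subtype.ext (Equiv.ext (adjFlip_succ c hc i))
      rw [← e]
      exact mul_mem (hr _) (mul_mem (hr _) (mul_mem ih (mul_mem (hr _) (hr _))))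
  have hker : ∀ g : ↥C₀, pairHom g = 1 → g ∈ K := by
    intro g hg
    obtain ⟨m, hm⟩ := flip_mask hg
    have hs : Perm.sign (maskEl m) = 1 := hm ▸ Perm.mem_alternatingGroup.1 (mem_C₀.1 g.2).1
    obtain ⟨b0, b1, b2, b3, b4, hb⟩ := mask_even m hs
    let p : Bool → Fin 5 → ↥C₀ := fun b i => if b then adjFlip i else 1
    have hp : ∀ b i, p b i ∈ K := fun b i => by cases b; exacts [one_mem K, hflip i]
    have e : g = p b0 0 * (p b1 1 * (p b2 2 * (p b3 3 * p b4 4))) := by
      refine Subtype.ext (hm.trans (Equiv.ext fun x => ?_))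
      rw [show (maskEl m) x = maskFun m x from rfl, ← hb x]
      cases b0 <;> cases b1 <;> cases b2 <;> cases b3 <;> cases b4 <;> rfl
    rw [e]
    exact mul_mem (hp _ _) (mul_mem (hp _ _) (mul_mem (hp _ _) (mul_mem (hp _ _) (hp _ _))))
  have hmap : ∀ π : Perm (Fin 6), π ∈ (K.map pairHom).toSubmonoid := by
    intro π
    have htop : π ∈ Submonoid.closure (Set.range fun i : Fin 5 => swap i.castSucc i.succ) := by
      rw [Equiv.Perm.mclosure_swap_castSucc_succ]; trivial
    refine (Submonoid.closure_le.2 ?_) htop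
    rintro _ ⟨i, rfl⟩
    exact ⟨rt (chain c i), hr i, Equiv.ext (chain_pair c hc i)⟩
  refine eq_top_iff.2 fun g _ => ?_
  obtain ⟨k, hk, hkg⟩ := hmap (pairHom g)
  have := mul_mem hk (hker (k⁻¹ * g) (by rw [map_mul, map_inv, hkg, inv_mul_cancel]))
  rwa [mul_inv_cancel_left] at this

end CfsgLib.Alt12Inv
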