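import Cfsg.Agent.Alt12Inv.Seven.Model
import Cfsg.Agent.Alt12Inv.CloseSplit
import Cfsg.Agent.Invol.Dihedral

/-!
The members inside the copy of `Sp₆(2)`: one class, with centralizers inside.
-/

set_option autoImplicit false
set_option linter.unusedSectionVars false
set_option linter.style.haveILetI false

namespace CfsgLib.Alt12Inv

open Subgroup

universe u

variable {G : Type u} [Group G] [Finite G] {α : G} {F : Frame α}

/-- The copy of the model in the group. -/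
def Frame.Model.H (M : F.Model) : Subgroup G := M.ψ.range

theorem Frame.Model.mem_of_comm (M : F.Model) {g : G} (h : Commute g α) : g ∈ M.H := M.le g h

theorem Frame.Model.a_mem (M : F.Model) (v : Fin 64) : F.a v ∈ M.H := M.le _ (F.comm_centre (aC v))

theorem conj_of_braid {a b : G} (ha : a * a = 1) (hb : b * b = 1) (hab : a * b * a = b * a * b) :
    b * a * b * (b * a)⁻¹ = a := by
  rw [← hab, mul_inv_rev, inv_eq_of_mul_eq_one_right ha, inv_eq_of_mul_eq_one_right hb]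
  calc a * b * a * (a * b) = a * b * (a * a) * b := by group
    _ = a := by rw [ha, mul_one, mul_assoc, hb, mul_one]

theorem member_sq {x : G} (h : IsConj α x) (F : Frame α) : x * x = 1 := conj_sq_one h F.alpha_sq

theorem Frame.IsShort.short_conj (h : F.IsShort) (M : F.Model) {v : Fin 64} (hv : Short v) :
    ∃ k ∈ M.H, k * α * k⁻¹ = F.a v := by
  obtain ⟨-, s2, s3, -⟩ := short_facts
  have toRoot : ∀ {w : Fin 64}, Short w → w ≠ 21 → ∃ d : ↥C₀, F.ι d * F.a 2 * (F.ι d)⁻¹ = F.a w := by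
    intro w hw hne
    have hr : (rOf w).1 ≠ 30 :=
      (by decide +kernel : ∀ w ∈ six₆, (rOf w).1 ≠ 30) w ((six_iff w).2 ⟨hw, hne⟩)
    obtain ⟨d, hd⟩ := rt_conj _ hr
    refine ⟨d, ?_⟩
    rw [show (0 : Fin 31) = rOf 2 from rfl, rt_eq_aC s2, rt_eq_aC hw] at hd
    rw [Frame.a, Frame.a, ← hd, F.ι_conj]
  by_cases e : v = 21
  · exact ⟨1, one_mem _, by rw [e, F.a_centre]; group⟩
  obtain ⟨d₃, hd₃⟩ := toRoot s3 (by decide)
  obtain ⟨d, hd⟩ := toRoot hv e
  have ht : M.t * M.t = 1 := member_sq M.t_member F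
  have e1 : α * M.t * α * (α * M.t)⁻¹ = M.t := conj_of_braid ht F.alpha_sq M.t_braid
  have e2 : M.t * F.a 3 * (M.t) * (M.t * F.a 3)⁻¹ = F.a 3 := conj_of_braid (F.a_sq 3) ht M.t_braid3.symm
  refine ⟨F.ι d * (F.ι d₃)⁻¹ * (M.t * F.a 3) * (α * M.t),
    mul_mem (mul_mem (mul_mem (M.mem_of_comm (F.comm_centre d)) (inv_mem (M.mem_of_comm (F.comm_centre d₃))))
      (mul_mem M.t_mem (M.a_mem 3))) (mul_mem (M.mem_of_comm (Commute.refl α)) M.t_mem), ?_⟩
  calc F.ι d * (F.ι d₃)⁻¹ * (M.t * F.a 3) * (α * M.t) * α *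
        (F.ι d * (F.ι d₃)⁻¹ * (M.t * F.a 3) * (α * M.t))⁻¹
      = F.ι d * (F.ι d₃)⁻¹ * ((M.t * F.a 3) * (α * M.t * α * (α * M.t)⁻¹) * (M.t * F.a 3)⁻¹) *
          (F.ι d * (F.ι d₃)⁻¹)⁻¹ := by group
    _ = F.ι d * (F.ι d₃)⁻¹ * F.a 3 * (F.ι d * (F.ι d₃)⁻¹)⁻¹ := by rw [e1, e2]
    _ = F.ι d * F.a 2 * (F.ι d)⁻¹ := by rw [← hd₃]; group
    _ = F.a v := hd

theorem Frame.Model.invol_conj_a (M : F.Model) {x : G} (hx : x ∈ M.H) (hx2 : x * x = 1) :
    ∃ k ∈ M.H, ∃ v, k * x * k⁻¹ = F.a v := by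
  haveI : Fact (Nat.Prime 2) := ⟨Nat.prime_two⟩
  have hTle : (F.sylow : Subgroup G) ≤ M.H := fun s hs =>
    M.mem_of_comm (mem_centralizer_singleton_iff.1 (F.T_le (F.coe_sylow ▸ hs)))
  set x' : ↥M.H := ⟨x, hx⟩ with hx'
  have hp : IsPGroup 2 ↥(zpowers x') := by
    obtain ⟨k, -, hk⟩ := (Nat.dvd_prime_pow Nat.prime_two).1
      (orderOf_dvd_of_pow_eq_one (show x' ^ 2 ^ 1 = 1 from Subtype.ext (by
        rw [SubmonoidClass.coe_pow, pow_one, pow_two]; exact hx2)))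
    exact IsPGroup.of_card (n := k) (by rw [Nat.card_zpowers, hk])
  obtain ⟨Q, hQ⟩ := hp.exists_le_sylow
  obtain ⟨k, hk⟩ := MulAction.exists_smul_eq ↥M.H Q (F.sylow.subtype hTle)
  have h1 : MulAut.conj k • x' ∈ ((k • Q : Sylow 2 ↥M.H) : Subgroup ↥M.H) :=
    Subgroup.smul_mem_pointwise_smul _ _ _ (hQ (mem_zpowers x'))
  rw [hk, Sylow.coe_subtype, mem_subgroupOf] at h1
  obtain ⟨y, -, hy⟩ : (k : G) * x * (k : G)⁻¹ ∈ F.T := h1
  obtain ⟨c, v, hc⟩ := invol_conj y (F.inj (by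
    rw [map_mul, map_one, hy, show (k : G) * x * (k : G)⁻¹ * ((k : G) * x * (k : G)⁻¹) =
      k * (x * x) * (k : G)⁻¹ by group, hx2, mul_one, mul_inv_cancel]))
  refine ⟨F.ι c * k, mul_mem (M.mem_of_comm (F.comm_centre c)) k.2, v, ?_⟩
  rw [Frame.a, ← hc, F.ι_conj, hy]
  group

theorem Frame.IsShort.member_conj (h : F.IsShort) (M : F.Model) {x : G} (hx : x ∈ M.H) (hm : IsConj α x) :
    ∃ k ∈ M.H, k * α * k⁻¹ = x := by
  obtain ⟨k, hk, v, hv⟩ := M.invol_conj_a hx (member_sq hm F)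
  obtain ⟨l, hl, hlv⟩ := h.short_conj M ((h v).1 (hm.trans (isConj_iff.2 ⟨k, hv⟩)))
  refine ⟨k⁻¹ * l, mul_mem (inv_mem hk) hl, ?_⟩
  rw [show k⁻¹ * l * α * (k⁻¹ * l)⁻¹ = k⁻¹ * (l * α * l⁻¹) * k by group, hlv, ← hv]
  group

theorem Frame.IsShort.cent_member (h : F.IsShort) (M : F.Model) {x : G} (hx : x ∈ M.H) (hm : IsConj α x)
    {c : G} (hc : Commute c x) : c ∈ M.H := by
  obtain ⟨k, hk, rfl⟩ := h.member_conj M hx hm
  have h1 := hc.map (MulAut.conj k⁻¹).toMonoidHom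
  simp only [MulEquiv.coe_toMonoidHom, MulAut.conj_apply, inv_inv] at h1
  rw [show k⁻¹ * (k * α * k⁻¹) * k = α by group] at h1
  have h2 := mul_mem (mul_mem hk (M.mem_of_comm h1)) (inv_mem hk)
  rwa [show k * (k⁻¹ * c * k) * k⁻¹ = c by group] at h2

theorem Frame.IsShort.stab_member (h : F.IsShort) (M : F.Model) {x g : G} (hx : x ∈ M.H) (hm : IsConj α x)
    (hg : g * x * g⁻¹ ∈ M.H) : g ∈ M.H := by
  obtain ⟨k, hk, hkx⟩ := h.member_conj M hx hm
  obtain ⟨l, hl, hlx⟩ := h.member_conj M hg (hm.trans (isConj_iff.2 ⟨g, rfl⟩))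
  have hc : Commute (l⁻¹ * g * k) α := by
    refine mul_inv_eq_iff_eq_mul.1 ?_
    calc l⁻¹ * g * k * α * (l⁻¹ * g * k)⁻¹ = l⁻¹ * (g * (k * α * k⁻¹) * g⁻¹) * l := by group
      _ = α := by rw [hkx, ← hlx]; group
  have h2 := mul_mem (mul_mem hl (M.mem_of_comm hc)) (inv_mem hk)
  rwa [show l * (l⁻¹ * g * k) * k⁻¹ = g by group] at h2

/-- Two members that form a 2-group commute. -/
theorem Frame.IsShort.two_commute (h : F.IsShort) {l y : G} (hl : IsConj α l) (hy : IsConj α y) {k : ℕ}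
    (hk : (l * y) ^ 2 ^ k = 1) : Commute l y := by
  have hl2 := member_sq hl F
  have hy2 := member_sq hy F
  have hQ := pgroup_pair (U := (⊥ : Subgroup G)) hl2 (inverts_mul hl2 hy2) hk
    (fun u hu => by rw [mem_bot.1 hu, one_mul]) (fun u hu => by rw [mem_bot.1 hu]; exact Commute.one_left _)
    (fun u hu => by rw [mem_bot.1 hu]; exact Commute.one_left _)
  obtain ⟨g, hg⟩ := F.two hQ
  have hlQ : l ∈ (⊥ : Subgroup G) ⊔ (zpowers l ⊔ zpowers (l * y)) :=
    mem_sup_right (mem_sup_left (mem_zpowers l))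
  have hyQ : y ∈ (⊥ : Subgroup G) ⊔ (zpowers l ⊔ zpowers (l * y)) := by
    have h1 : l * (l * y) ∈ (⊥ : Subgroup G) ⊔ (zpowers l ⊔ zpowers (l * y)) :=
      mul_mem hlQ (mem_sup_right (mem_sup_right (mem_zpowers _)))
    rwa [← mul_assoc, hl2, one_mul] at h1
  rcases h.three hl hy (isConj_iff.2 ⟨g, rfl⟩) (hg l hlQ) (hg y hyQ) with e | e
  · exact e
  · have h3 : (l * y) ^ 3 = 1 := by
      rw [show (l * y) ^ 3 = l * y * l * (y * l * y) by simp [pow_succ, mul_assoc], e]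
      calc y * l * y * (y * l * y) = y * l * (y * y) * l * y := by group
        _ = 1 := by rw [hy2, mul_one, mul_assoc y l l, hl2, mul_one, hy2]
    have h1 : l * y = 1 := by
      rw [← orderOf_eq_one_iff]
      have hco : Nat.Coprime 3 (2 ^ k) := Nat.Coprime.pow_right k (by decide)
      exact Nat.eq_one_of_dvd_coprimes hco (orderOf_dvd_of_pow_eq_one h3) (orderOf_dvd_of_pow_eq_one hk)
    rw [eq_inv_of_mul_eq_one_left h1]
    exact (Commute.refl y).inv_left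

/-- A member is moved next to a member inside. -/
theorem Frame.IsShort.exists_split (h : F.IsShort) (M : F.Model) {m l : G} (hm : IsConj α m) (hlH : l ∈ M.H)
    (hl : IsConj α l) :
    ∃ y r, y ∈ M.H ∧ IsConj α y ∧ r * m * r⁻¹ = y ∧ (∀ z, Commute z l → Commute z m → Commute z r) ∧
      Commute l y ∧ Commute (l * y) m := by
  obtain ⟨y, r, hy, hr, hz, ⟨k, hk⟩, hpow⟩ := split (K := ↥M.H) (P := fun x => IsConj α (x : G))
    (f := M.H.subtype) Subtype.val_injective (fun _ => Iff.rfl) (fun x hx => Subtype.ext (member_sq hx F))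
    (fun Q hQ => F.two hQ) (U := ⊥) (fun u hu => by rw [mem_bot.1 hu, one_mul])
    (fun x hx c _ hc => by rw [M.H.range_subtype]; exact h.cent_member M x.2 hx hc)
    hm (fun u hu => by rw [mem_bot.1 hu]; exact Commute.one_left _) (l := ⟨l, hlH⟩) hl
    (fun u hu => by rw [mem_bot.1 hu]; exact Commute.one_left _)
  have hly : Commute l (y : G) := h.two_commute hl hy (congrArg Subtype.val hk)
  have h2 : (l * (y : G)) * (l * y) = 1 := by
    calc l * (y : G) * (l * y) = l * ((y : G) * l) * y := by group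
      _ = 1 := by
        rw [← hly.eq, ← mul_assoc l l, member_sq hl F, one_mul, member_sq hy F]
  refine ⟨y, r, y.2, hy, hr, hz, hly, ?_⟩
  have h3 := hpow 1 (Subtype.ext (by simpa [pow_one] using h2))
  simpa [pow_one] using h3

end CfsgLib.Alt12Inv
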