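import Cfsg.Agent.Alt12Inv.Fusion.Outer

/-!
The centre and the thirty short involutions of the centralizer, as roots of type D₆.
-/

set_option autoImplicit false
set_option linter.unusedSectionVars false
set_option linter.style.haveILetI false
set_option maxRecDepth 100000
set_option synthInstance.maxSize 4096

namespace CfsgLib.Alt12Inv

open Equiv

/-- The edge of a root: two pairs, in increasing order. -/
def edge (n : ℕ) : ℕ × ℕ :=
  ([(0, 1), (0, 2), (0, 3), (0, 4), (0, 5), (1, 2), (1, 3), (1, 4), (1, 5), (2, 3), (2, 4), (2, 5),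
    (3, 4), (3, 5), (4, 5)] : List (ℕ × ℕ)).getD n (0, 0)

/-- The root with a given number; the last one is the centre. -/
def rtFun (r : Fin 31) (x : Fin 12) : Fin 12 :=
  let e := edge (r.1 / 2)
  let s := r.1 % 2
  ⟨(if r.1 = 30 then Nat.xor x.1 1 else if x.1 / 2 = e.1 then 2 * e.2 + (x.1 % 2 + s) % 2
    else if x.1 / 2 = e.2 then 2 * e.1 + (x.1 % 2 + s) % 2 else x.1) % 12, Nat.mod_lt _ (by decide)⟩

theorem rtFun_invol : ∀ r x, rtFun r (rtFun r x) = x := by decide +kernel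

/-- A root as a permutation. -/
def rtEl (r : Fin 31) : Perm (Fin 12) := ⟨rtFun r, rtFun r, rtFun_invol r, rtFun_invol r⟩

theorem rtEl_mem : ∀ r, rtEl r ∈ C₀ := by
  simp only [mem_C₀, Perm.mem_alternatingGroup, Equiv.ext_iff, Perm.mul_apply]
  decide +kernel

/-- A root in the centralizer. -/
def rt (r : Fin 31) : ↥C₀ := ⟨rtEl r, rtEl_mem r⟩

theorem rt_sq (r : Fin 31) : rt r * rt r = 1 := Subtype.ext (Equiv.ext fun x => rtFun_invol r x)

/-- Equality of coded maps. -/
def eqFun (f g : Fin 12 → Fin 12) : Bool := (List.finRange 12).all fun x => decide (f x = g x)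

/-- Two roots commute. -/
def com (r r' : Fin 31) : Bool := eqFun (fun x => rtFun r (rtFun r' x)) (fun x => rtFun r' (rtFun r x))

/-- A root commutes with a translation. -/
def comA (r : Fin 31) (v : Fin 64) : Bool := eqFun (fun x => rtFun r (aFun v x)) (fun x => aFun v (rtFun r x))

theorem eqFun_iff {f g : Fin 12 → Fin 12} : eqFun f g = true ↔ ∀ x, f x = g x := by
  simp [eqFun]

theorem com_iff {r r' : Fin 31} : com r r' = true ↔ rt r * rt r' = rt r' * rt r :=
  eqFun_iff.trans ⟨fun h => Subtype.ext (Equiv.ext h), fun h x => congrArg (fun g : ↥C₀ => (g : Perm (Fin 12)) x) h⟩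

theorem comA_iff {r : Fin 31} {v : Fin 64} : comA r v = true ↔ rt r * aC v = aC v * rt r :=
  eqFun_iff.trans ⟨fun h => Subtype.ext (Equiv.ext h), fun h x => congrArg (fun g : ↥C₀ => (g : Perm (Fin 12)) x) h⟩

/-- The seven codes. -/
def short₇ : List (Fin 64) := [21, 2, 3, 8, 12, 32, 48]

theorem short_iff : ∀ v, Short v ↔ v ∈ short₇ := by unfold Short; decide +kernel

/-- The other six. -/
def six₆ : List (Fin 64) := [2, 3, 8, 12, 32, 48]

theorem six_iff : ∀ v, v ∈ six₆ ↔ Short v ∧ v ≠ 21 := by unfold Short; decide +kernel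

/-- The root of a code. -/
def rOf (v : Fin 64) : Fin 31 :=
  if v = 2 then 0 else if v = 3 then 1 else if v = 8 then 18 else if v = 12 then 19 else if v = 32 then 28
  else if v = 48 then 29 else 30

theorem rt_rOf : ∀ v ∈ short₇, ∀ x, rtFun (rOf v) x = aFun v x := by decide +kernel

theorem rt_eq_aC {v : Fin 64} (h : Short v) : rt (rOf v) = aC v :=
  Subtype.ext (Equiv.ext (rt_rOf v ((short_iff v).1 h)))

theorem order_three : ∀ r r', com r r' = true ∨
    eqFun (fun x => rtFun r (rtFun r' (rtFun r x))) (fun x => rtFun r' (rtFun r (rtFun r' x))) = true := by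
  decide +kernel

/-- Two roots commute or braid. -/
theorem rt_three (r r' : Fin 31) :
    rt r * rt r' = rt r' * rt r ∨ rt r * rt r' * rt r = rt r' * rt r * rt r' := by
  rcases order_three r r' with h | h
  · exact Or.inl (com_iff.1 h)
  · exact Or.inr (Subtype.ext (Equiv.ext (eqFun_iff.1 h)))

/-- The pairs of a conjugator from the first edge. -/
def pairList (r : Fin 31) : List ℕ :=
  let e := edge (r.1 / 2)
  let l := (List.range 6).filter fun i => i ≠ e.1 && i ≠ e.2
  [e.1, e.2] ++ l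

/-- A conjugator of the first root to a given one. -/
def conjFun (r : Fin 31) (x : Fin 12) : Fin 12 :=
  let i := x.1 / 2
  let flip := if r.1 % 2 = 1 ∧ (i = 1 ∨ i = 5) then 1 else 0
  ⟨(2 * (pairList r).getD i 0 + (x.1 % 2 + flip) % 2) % 12, Nat.mod_lt _ (by decide)⟩

/-- Its inverse. -/
def conjInv (r : Fin 31) (x : Fin 12) : Fin 12 :=
  ((List.finRange 12).find? fun y => decide (conjFun r y = x)).getD 0

theorem conjFun_inv : ∀ r : Fin 31, r.1 ≠ 30 → ∀ x, conjFun r (conjInv r x) = x ∧ conjInv r (conjFun r x) = x := by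
  decide +kernel

/-- The conjugator as a permutation. -/
def conjEl (r : Fin 31) (h : r.1 ≠ 30) : Perm (Fin 12) :=
  ⟨conjFun r, conjInv r, fun x => (conjFun_inv r h x).2, fun x => (conjFun_inv r h x).1⟩

theorem conjEl_mem : ∀ r h, conjEl r h ∈ C₀ := by
  simp only [mem_C₀, Perm.mem_alternatingGroup, Equiv.ext_iff, Perm.mul_apply]
  decide +kernel

theorem conj_chk : ∀ r : Fin 31, r.1 ≠ 30 → ∀ x, conjFun r (rtFun 0 x) = rtFun r (conjFun r x) := by
  decide +kernel

/-- Every root other than the centre is conjugate to the first. -/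
theorem rt_conj (r : Fin 31) (h : r.1 ≠ 30) : ∃ c : ↥C₀, c * rt 0 * c⁻¹ = rt r :=
  ⟨⟨conjEl r h, conjEl_mem r h⟩, mul_inv_eq_of_eq_mul (Subtype.ext (Equiv.ext (conj_chk r h)))⟩

/-- The classifying property of the roots. -/
def RootLike (g : ↥C₀) : Prop := g * g = 1 ∧ (g : Perm (Fin 12)).support.card = 4 ∧ pairHom g ≠ 1

theorem rootLike_six : ∀ v ∈ six₆, RootLike (aC v) := by
  intro v hv
  refine ⟨aC_sq v, ?_, fun h => ?_⟩
  · exact (by decide +kernel : ∀ v ∈ six₆, (aEl v).support.card = 4) v hv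
  · obtain ⟨i, hi⟩ := (by decide +kernel : ∀ v ∈ six₆, ∃ i, pairFun (aEl v) i ≠ i) v hv
    exact hi (congrArg (fun g : Perm (Fin 6) => g i) h)

theorem RootLike.conj {g : ↥C₀} (h : RootLike g) (c : ↥C₀) : RootLike (c * g * c⁻¹) := by
  obtain ⟨h1, h2, h3⟩ := h
  refine ⟨?_, ?_, fun e => h3 ?_⟩
  · rw [show c * g * c⁻¹ * (c * g * c⁻¹) = c * (g * g) * c⁻¹ by group, h1, mul_one, mul_inv_cancel]
  · rw [Subgroup.coe_mul, Subgroup.coe_mul, Subgroup.coe_inv, Perm.card_support_conj, h2]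
  · rw [map_mul, map_mul, map_inv] at e
    exact mul_left_cancel ((mul_inv_eq_one.1 e).trans (mul_one _).symm)

theorem rootLike_table : ∀ p q : Fin 12, p.1 / 2 ≠ q.1 / 2 → ∃ r : Fin 31,
    rtFun r p = q ∧ rtFun r q = p ∧ rtFun r (t₀ p) = t₀ q ∧ rtFun r (t₀ q) = t₀ p ∧
      ∀ x, x ≠ p → x ≠ q → x ≠ t₀ p → x ≠ t₀ q → rtFun r x = x := by
  decide +kernel

theorem RootLike.eq_rt {g : ↥C₀} (h : RootLike g) : ∃ r, g = rt r := by
  obtain ⟨h1, h2, h3⟩ := h
  obtain ⟨i, hi⟩ : ∃ i, pairHom g i ≠ i := by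
    by_contra hne
    push Not at hne
    exact h3 (Equiv.ext hne)
  set p : Fin 12 := ⟨2 * i.1, by have := i.2; omega⟩ with hp
  set q := (g : Perm (Fin 12)) p with hq
  have hpq : p.1 / 2 ≠ q.1 / 2 := by
    intro e
    refine hi (Fin.ext ?_)
    show q.1 / 2 = i.1
    rw [← e]; show 2 * i.1 / 2 = i.1; omega
  have gq : (g : Perm (Fin 12)) q = p := congrArg (fun z : ↥C₀ => (z : Perm (Fin 12)) p) h1
  have ht : ∀ x, (g : Perm (Fin 12)) (t₀ x) = t₀ ((g : Perm (Fin 12)) x) := fun x =>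
    congrArg (fun z : Perm (Fin 12) => z x) (mem_C₀.1 g.2).2
  obtain ⟨r, r1, r2, r3, r4, r5⟩ := rootLike_table p q hpq
  have g3 : (g : Perm (Fin 12)) (t₀ p) = t₀ q := ht p
  have g4 : (g : Perm (Fin 12)) (t₀ q) = t₀ p := by rw [ht, gq]
  refine ⟨r, Subtype.ext (Equiv.ext fun x => ?_)⟩
  show (g : Perm (Fin 12)) x = rtFun r x
  by_cases e1 : x = p
  · subst e1; exact r1.symm
  by_cases e2 : x = q
  · subst e2; rw [gq, r2]
  by_cases e3 : x = t₀ p
  · subst e3; rw [g3, r3]
  by_cases e4 : x = t₀ q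
  · subst e4; rw [g4, r4]
  rw [r5 x e1 e2 e3 e4]
  by_contra hx
  have hdist : ∀ a b : Fin 12, a.1 / 2 ≠ b.1 / 2 →
      a ≠ b ∧ a ≠ t₀ a ∧ a ≠ t₀ b ∧ b ≠ t₀ a ∧ b ≠ t₀ b ∧ t₀ a ≠ t₀ b := by decide +kernel
  obtain ⟨d1, d2, d3, d4, d5, d6⟩ := hdist p q hpq
  have hsub : ({p, q, t₀ p, t₀ q, x} : Finset (Fin 12)) ⊆ (g : Perm (Fin 12)).support := by
    intro y hy
    simp only [Finset.mem_insert, Finset.mem_singleton] at hy
    rw [Perm.mem_support]
    rcases hy with e | e | e | e | e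
    · rw [e, ← hq]; exact d1.symm
    · rw [e, gq]; exact d1
    · rw [e, g3]; exact d6.symm
    · rw [e, g4]; exact d6
    · rw [e]; exact hx
  have hcard : ({p, q, t₀ p, t₀ q, x} : Finset (Fin 12)).card = 5 := by
    rw [Finset.card_insert_of_notMem, Finset.card_insert_of_notMem, Finset.card_insert_of_notMem,
      Finset.card_insert_of_notMem, Finset.card_singleton]
    · simp only [Finset.mem_singleton]; exact Ne.symm e4
    · simp only [Finset.mem_insert, Finset.mem_singleton, not_or]; exact ⟨d6, Ne.symm e3⟩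
    · simp only [Finset.mem_insert, Finset.mem_singleton, not_or]; exact ⟨d4, d5, Ne.symm e2⟩
    · simp only [Finset.mem_insert, Finset.mem_singleton, not_or]; exact ⟨d1, d2, d3, Ne.symm e1⟩
  have := Finset.card_le_card hsub
  omega

/-- The digit position of a code of the six. -/
def blk (v : Fin 64) : ℕ := if v.1 < 4 then 0 else if v.1 < 16 then 1 else 2

theorem same_chk : ∀ r : Fin 31, ∀ v ∈ six₆, ∀ w ∈ six₆, v ≠ w → comA r v = true → comA r w = true →
    (∃ p ∈ six₆, comA r p = false) → blk v = blk w := by decide +kernel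

theorem same_wit : ∀ v ∈ six₆, ∀ w ∈ six₆, v ≠ w → blk v = blk w →
    ∃ r : Fin 31, comA r v = true ∧ comA r w = true ∧ ∃ p ∈ six₆, comA r p = false := by decide +kernel

theorem partner_exists : ∀ v ∈ six₆, ∃ w ∈ six₆, v ≠ w ∧ blk v = blk w := by decide +kernel

theorem partner_unique : ∀ v ∈ six₆, ∀ w ∈ six₆, ∀ w' ∈ six₆, v ≠ w → v ≠ w' → blk v = blk w →
    blk v = blk w' → w = w' := by decide +kernel

theorem normal_form : ∀ p ∈ six₆, ∀ q ∈ six₆, p ≠ q → blk p = blk q → ∀ r ∈ six₆, ∀ s ∈ six₆,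
    r ≠ s → blk r = blk s → blk r ≠ blk p →
    ∃ (k : Fin 8) (j : Fin 3), s4 k j 2 = p ∧ s4 k j 3 = q ∧ s4 k j 32 = r ∧ s4 k j 48 = s := by
  decide +kernel

theorem node_exists : ∀ r : Fin 31, comA r 32 = true → comA r 48 = true → comA r 2 = false →
    ∃ τ : Fin 31, comA τ 2 = true ∧ comA τ 3 = true ∧ com τ r = true ∧
      comA τ 32 = false ∧ comA τ 48 = false := by decide +kernel

theorem node_swap : ∀ v ∈ ([8, 12] : List (Fin 64)), ∀ τ : Fin 31, comA τ 2 = true → comA τ 3 = true →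
    comA τ 32 = false → comA τ v = false → ∀ r : Fin 31, comA r 32 = true → comA r 48 = true →
    comA r 2 = false → comA r v = false →
    com τ r = true ∨ eqFun (fun x => aFun v (rtFun τ (aFun v (rtFun r x))))
      (fun x => rtFun r (aFun v (rtFun τ (aFun v x)))) = true := by decide +kernel

/-- The codes of two members, as bits. -/
def pairMask : ℕ := 1237382878879403026

theorem pair_chk : ∀ p ∈ short₇, ∀ q ∈ short₇, p.1 < q.1 → ∀ y : Fin 31,
    eqFun (fun x => rtFun y (aFun (vadd p q) x)) (fun x => aFun (vadd p q) (rtFun y x)) = true →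
    eqFun (rtFun y) (aFun p) = true ∨ eqFun (rtFun y) (aFun q) = true ∨
      ∀ r : Fin 31, eqFun (fun x => rtFun y (aFun (vadd p q) x)) (rtFun r) = false := by decide +kernel

theorem sum_three : ∀ v : Fin 64, v ≠ 0 → v ∈ short₇ ∨ (∃ p ∈ short₇, ∃ q ∈ short₇, p ≠ q ∧ vadd p q = v) ∨
    ∃ p ∈ short₇, ∃ q ∈ short₇, ∃ r ∈ short₇, p ≠ q ∧ p ≠ r ∧ q ≠ r ∧ vadd (vadd p q) r = v := by decide +kernel

theorem pair_mask : ∀ p ∈ short₇, ∀ q ∈ short₇, p ≠ q → Nat.testBit pairMask (vadd p q).1 = true := by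
  decide +kernel

theorem four_mask : ∀ p ∈ short₇, ∀ q ∈ short₇, ∀ r ∈ short₇, p ≠ q → p ≠ r → q ≠ r →
    ∃ l ∈ short₇, l ≠ p ∧ l ≠ q ∧ l ≠ r ∧
      Nat.testBit pairMask (vadd (vadd (vadd p q) r) l).1 = false := by decide +kernel

theorem even_span : ∀ p ∈ short₇, ∀ q ∈ short₇, p ≠ q →
    (short₇.filter fun l => decide (l ≠ p ∧ l ≠ q)).foldl (fun s l => vadd s (vadd l p)) (vadd p q) = p := by
  decide +kernel

theorem vadd_symm : ∀ p q, vadd p q = vadd q p := by decide +kernel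

end CfsgLib.Alt12Inv
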