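import Cfsg.Agent.Alt12Inv.Fusion.Action
import Cfsg.Agent.Alt12Inv.Seven.Roots

/-!
The conjugates of the involution in the case of seven fused codes: any two with a common commuting third
commute or braid; the lines on the seven codes.
-/

set_option autoImplicit false
set_option linter.unusedSectionVars false
set_option linter.style.haveILetI false

namespace CfsgLib.Alt12Inv

open Subgroup

universe u

variable {G : Type u} [Group G] [Finite G] {α : G} (F : Frame α)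

/-- The hypothesis of this case. -/
def Frame.IsShort : Prop := ∀ v, F.Fused v ↔ Short v

theorem Frame.alpha_sq (F : Frame α) : α * α = 1 := by rw [← F.a_centre, F.a_sq]

theorem Frame.ι_conj (c x : ↥C₀) : F.ι (c * x * c⁻¹) = F.ι c * F.ι x * (F.ι c)⁻¹ := by
  rw [map_mul, map_mul, map_inv]

variable {F}

theorem Frame.IsShort.member_rt (h : F.IsShort) {x : ↥C₀} (hx : IsConj α (F.ι x)) : ∃ r, x = rt r := by
  have hx2 : x * x = 1 := F.inj (by
    obtain ⟨g, hg⟩ := isConj_iff.1 hx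
    rw [map_mul, map_one, ← hg, show g * α * g⁻¹ * (g * α * g⁻¹) = g * (α * α) * g⁻¹ by group,
      F.alpha_sq, mul_one, mul_inv_cancel])
  obtain ⟨c, v, hc⟩ := invol_conj x hx2
  have hv : Short v := (h v).1 (hx.trans (isConj_iff.2 ⟨F.ι c, by rw [← F.ι_conj, hc]; rfl⟩))
  have hx' : x = c⁻¹ * aC v * (c⁻¹)⁻¹ := by rw [← hc]; group
  by_cases e : v = 21
  · subst e
    refine ⟨30, ?_⟩
    rw [hx', aC21_comm, mul_inv_cancel_right, show (30 : Fin 31) = rOf 21 from rfl, rt_eq_aC (Or.inl rfl)]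
  · exact (hx' ▸ (rootLike_six v ((six_iff v).2 ⟨hv, e⟩)).conj c⁻¹).eq_rt

theorem Frame.IsShort.rt_member (h : F.IsShort) (r : Fin 31) : IsConj α (F.ι (rt r)) := by
  by_cases e : r.1 = 30
  · rw [show r = rOf 21 from Fin.ext e, rt_eq_aC (Or.inl rfl)]
    exact (h 21).2 (Or.inl rfl)
  · obtain ⟨c, hc⟩ := rt_conj r e
    have h2 : IsConj α (F.a 2) := (h 2).2 (by unfold Short; decide)
    refine h2.trans (isConj_iff.2 ⟨F.ι c, ?_⟩)
    rw [← hc, F.ι_conj, show (0 : Fin 31) = rOf 2 from rfl, rt_eq_aC (by unfold Short; decide)]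
    rfl

/-- Two members centralizing a third commute or braid. -/
theorem Frame.IsShort.three (h : F.IsShort) {x y z : G} (hx : IsConj α x) (hy : IsConj α y)
    (hz : IsConj α z) (hxz : Commute x z) (hyz : Commute y z) :
    Commute x y ∨ x * y * x = y * x * y := by
  obtain ⟨g, rfl⟩ := isConj_iff.1 hz
  have hc : ∀ w, Commute w (g * α * g⁻¹) → Commute (g⁻¹ * w * g) α := fun w hw => by
    have h1 := hw.map (MulAut.conj g⁻¹).toMonoidHom
    simp only [MulEquiv.coe_toMonoidHom, MulAut.conj_apply, inv_inv] at h1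
    rwa [show g⁻¹ * (g * α * g⁻¹) * g = α by group] at h1
  obtain ⟨x', hx'⟩ := (F.mem_range (g := g⁻¹ * x * g)).2 (hc x hxz)
  obtain ⟨y', hy'⟩ := (F.mem_range (g := g⁻¹ * y * g)).2 (hc y hyz)
  obtain ⟨r, rfl⟩ := h.member_rt (x := x') (hx' ▸ hx.trans (isConj_iff.2 ⟨g⁻¹, by rw [inv_inv]⟩))
  obtain ⟨r', rfl⟩ := h.member_rt (x := y') (hy' ▸ hy.trans (isConj_iff.2 ⟨g⁻¹, by rw [inv_inv]⟩))
  have ex : x = g * F.ι (rt r) * g⁻¹ := by rw [hx']; group
  have ey : y = g * F.ι (rt r') * g⁻¹ := by rw [hy']; group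
  rw [ex, ey]
  rcases rt_three r r' with e | e
  · exact Or.inl ((show Commute (rt r) (rt r') from e).map ((MulAut.conj g).toMonoidHom.comp F.ι))
  · refine Or.inr ?_
    have e' := congrArg ((MulAut.conj g).toMonoidHom.comp F.ι) e
    simpa only [map_mul, MonoidHom.comp_apply, MulEquiv.coe_toMonoidHom, MulAut.conj_apply] using e'

/-- The coordinates moved by a symmetry of the codes. -/
def Frame.Sym.φ (σ : F.Sym) : ↥C₀ →* G := (MulAut.conj σ.n).toMonoidHom.comp F.ι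

theorem Frame.Sym.φ_apply (σ : F.Sym) (x : ↥C₀) : σ.φ x = σ.n * F.ι x * σ.n⁻¹ := rfl

theorem Frame.Sym.φ_injective (σ : F.Sym) : Function.Injective σ.φ :=
  (MulAut.conj σ.n).injective.comp F.inj

theorem Frame.Sym.φ_a (σ : F.Sym) (v : Fin 64) : σ.φ (aC v) = F.a (σ.s v) := σ.spec v

theorem Frame.Sym.φ_rt {v : Fin 64} (σ : F.Sym) (hv : Short v) : σ.φ (rt (rOf v)) = F.a (σ.s v) := by
  rw [rt_eq_aC hv, σ.φ_a]

theorem Frame.Sym.short_iff' (σ : F.Sym) (h : F.IsShort) (v : Fin 64) : Short (σ.s v) ↔ Short v := by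
  rw [← h, ← h, σ.fused]

theorem Frame.IsShort.φ_member (h : F.IsShort) (σ : F.Sym) (r : Fin 31) : IsConj α (σ.φ (rt r)) :=
  (h.rt_member r).trans (isConj_iff.2 ⟨σ.n, rfl⟩)

theorem Frame.IsShort.member_φ (h : F.IsShort) (σ : F.Sym) {u : Fin 64} (hu : σ.s 21 = u) {x : G}
    (hx : IsConj α x) (hc : Commute x (F.a u)) : ∃ r, x = σ.φ (rt r) := by
  have e : F.a u = σ.n * α * σ.n⁻¹ := by rw [← hu, ← σ.spec, F.a_centre]
  rw [e] at hc
  have h1 := hc.map (MulAut.conj σ.n⁻¹).toMonoidHom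
  simp only [MulEquiv.coe_toMonoidHom, MulAut.conj_apply, inv_inv] at h1
  rw [show σ.n⁻¹ * (σ.n * α * σ.n⁻¹) * σ.n = α by group] at h1
  obtain ⟨y, hy⟩ := (F.mem_range (g := σ.n⁻¹ * x * σ.n)).2 h1
  obtain ⟨r, rfl⟩ := h.member_rt (x := y) (hy ▸ hx.trans (isConj_iff.2 ⟨σ.n⁻¹, by rw [inv_inv]⟩))
  exact ⟨r, by rw [σ.φ_apply, hy]; group⟩

theorem Frame.Sym.comA_iff' (σ : F.Sym) (r : Fin 31) (v : Fin 64) :
    comA r v = true ↔ Commute (σ.φ (rt r)) (F.a (σ.s v)) := by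
  rw [comA_iff, ← σ.φ_a]
  exact ⟨fun e => (show Commute (rt r) (aC v) from e).map σ.φ,
    fun e => σ.φ_injective (by rw [map_mul, map_mul]; exact e.eq)⟩

theorem Frame.Sym.com_iff' (σ : F.Sym) (r r' : Fin 31) :
    com r r' = true ↔ Commute (σ.φ (rt r)) (σ.φ (rt r')) := by
  rw [com_iff]
  exact ⟨fun e => (show Commute (rt r) (rt r') from e).map σ.φ,
    fun e => σ.φ_injective (by rw [map_mul, map_mul]; exact e.eq)⟩

theorem Frame.Sym.not_comA (σ : F.Sym) {r : Fin 31} {v : Fin 64}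
    (h : ¬ Commute (σ.φ (rt r)) (F.a (σ.s v))) : comA r v = false :=
  Bool.eq_false_iff.2 fun e => h ((σ.comA_iff' r v).1 e)

variable (F)

/-- Three codes lie on a line: a member centralizes them, but not all seven. -/
def Frame.Line (u v w : Fin 64) : Prop :=
  Short u ∧ Short v ∧ Short w ∧ u ≠ v ∧ u ≠ w ∧ v ≠ w ∧
    ∃ x, IsConj α x ∧ Commute x (F.a u) ∧ Commute x (F.a v) ∧ Commute x (F.a w) ∧
      ∃ p, Short p ∧ ¬ Commute x (F.a p)

variable {F}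

theorem Frame.Line.swap {u v w : Fin 64} (l : F.Line u v w) : F.Line v u w := by
  obtain ⟨h1, h2, h3, h4, h5, h6, x, hx, c1, c2, c3, hp⟩ := l
  exact ⟨h2, h1, h3, h4.symm, h6, h5, x, hx, c2, c1, c3, hp⟩

theorem Frame.Line.rot {u v w : Fin 64} (l : F.Line u v w) : F.Line u w v := by
  obtain ⟨h1, h2, h3, h4, h5, h6, x, hx, c1, c2, c3, hp⟩ := l
  exact ⟨h1, h3, h2, h5, h4, h6.symm, x, hx, c1, c3, c2, hp⟩

theorem Frame.IsShort.sym_at (h : F.IsShort) {u : Fin 64} (hu : Short u) : ∃ σ : F.Sym, σ.s 21 = u :=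
  F.exists_sym_fused ((h u).2 hu)

theorem Frame.IsShort.pre_six (h : F.IsShort) (σ : F.Sym) {u v : Fin 64} (hu : σ.s 21 = u) (hv : Short v)
    (hne : u ≠ v) : ∃ v' ∈ six₆, σ.s v' = v := by
  obtain ⟨v', hv'⟩ := σ.bij.2 v
  exact ⟨v', (six_iff v').2 ⟨(σ.short_iff' h v').1 (hv' ▸ hv), fun e => hne (by rw [← hu, ← hv', e])⟩, hv'⟩

/-- Lines through a code are the blocks of its coordinates. -/
theorem Frame.IsShort.line_iff (h : F.IsShort) (σ : F.Sym) {u : Fin 64} (hu : σ.s 21 = u) {v w : Fin 64}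
    (hv : v ∈ six₆) (hw : w ∈ six₆) : F.Line u (σ.s v) (σ.s w) ↔ v ≠ w ∧ blk v = blk w := by
  constructor
  · rintro ⟨-, -, -, -, -, h6, x, hx, c1, c2, c3, p, hp, hpx⟩
    obtain ⟨r, rfl⟩ := h.member_φ σ hu hx c1
    refine ⟨fun e => h6 (by rw [e]), same_chk r v hv w hw (fun e => h6 (by rw [e]))
      ((σ.comA_iff' r v).2 c2) ((σ.comA_iff' r w).2 c3) ?_⟩
    obtain ⟨p', hp', e⟩ := h.pre_six σ hu hp (fun e => hpx (e ▸ c1))
    exact ⟨p', hp', σ.not_comA (by rw [e]; exact hpx)⟩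
  · rintro ⟨hne, hb⟩
    obtain ⟨r, r1, r2, p, hp, r3⟩ := same_wit v hv w hw hne hb
    have sv := ((six_iff v).1 hv)
    have sw := ((six_iff w).1 hw)
    refine ⟨hu ▸ (σ.short_iff' h 21).2 (Or.inl rfl), (σ.short_iff' h v).2 sv.1, (σ.short_iff' h w).2 sw.1,
      fun e => sv.2 (σ.bij.1 (hu.trans e)).symm, fun e => sw.2 (σ.bij.1 (hu.trans e)).symm,
      fun e => hne (σ.bij.1 e), σ.φ (rt r), h.φ_member σ r, ?_, (σ.comA_iff' r v).1 r1,
      (σ.comA_iff' r w).1 r2, σ.s p, (σ.short_iff' h p).2 ((six_iff p).1 hp).1, fun e => ?_⟩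
    · rw [← hu, ← σ.φ_a]
      exact (show Commute (rt r) (aC 21) from aC21_comm (rt r)).map σ.φ
    · rw [(σ.comA_iff' r p).2 e] at r3; exact Bool.noConfusion r3

theorem Frame.IsShort.line_exists (h : F.IsShort) {u v : Fin 64} (hu : Short u) (hv : Short v)
    (hne : u ≠ v) : ∃ w, F.Line u v w := by
  obtain ⟨σ, hσ⟩ := h.sym_at hu
  obtain ⟨v', hv', rfl⟩ := h.pre_six σ hσ hv hne
  obtain ⟨w', hw', hb⟩ := partner_exists v' hv'
  exact ⟨_, (h.line_iff σ hσ hv' hw').2 hb⟩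

theorem Frame.IsShort.line_unique (h : F.IsShort) {u v w w' : Fin 64} (l : F.Line u v w)
    (l' : F.Line u v w') : w = w' := by
  obtain ⟨σ, hσ⟩ := h.sym_at l.1
  obtain ⟨v₀, hv₀, ev⟩ := h.pre_six σ hσ l.2.1 l.2.2.2.1
  obtain ⟨w₀, hw₀, rfl⟩ := h.pre_six σ hσ l.2.2.1 l.2.2.2.2.1
  obtain ⟨w₁, hw₁, rfl⟩ := h.pre_six σ hσ l'.2.2.1 l'.2.2.2.2.1
  subst ev
  obtain ⟨n1, b1⟩ := (h.line_iff σ hσ hv₀ hw₀).1 l
  obtain ⟨n2, b2⟩ := (h.line_iff σ hσ hv₀ hw₁).1 l'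
  rw [partner_unique v₀ hv₀ w₀ hw₀ w₁ hw₁ n1 n2 b1 b2]

theorem Frame.IsShort.line_base (h : F.IsShort) :
    F.Line 21 2 3 ∧ F.Line 21 8 12 ∧ F.Line 21 32 48 := by
  have key : ∀ v ∈ six₆, ∀ w ∈ six₆, v ≠ w → blk v = blk w → F.Line 21 v w := fun v hv w hw n b =>
    (h.line_iff F.symOne (rfl : F.symOne.s 21 = 21) hv hw).2 ⟨n, b⟩
  exact ⟨key 2 (by decide) 3 (by decide) (by decide) (by decide),
    key 8 (by decide) 12 (by decide) (by decide) (by decide),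
    key 32 (by decide) 48 (by decide) (by decide) (by decide)⟩

/-- One of the two codes of the last quadruple is on the line of `2` and `8`. -/
theorem Frame.IsShort.exists_third (h : F.IsShort) : ∃ c c', ((c = 32 ∧ c' = 48) ∨ (c = 48 ∧ c' = 32)) ∧
    F.Line c 2 8 ∧ F.Line 21 2 3 ∧ F.Line 21 c c' := by
  obtain ⟨l1, l2, l3⟩ := h.line_base
  obtain ⟨w, hw⟩ := h.line_exists (u := 2) (v := 8) (by unfold Short; decide) (by unfold Short; decide) (by decide)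
  have key : ∀ w : Fin 64, Short w → w ≠ 2 → w ≠ 8 → w = 21 ∨ w = 3 ∨ w = 12 ∨ w = 32 ∨ w = 48 := by
    unfold Short; decide +kernel
  rcases key w hw.2.2.1 (Ne.symm hw.2.2.2.2.1) (Ne.symm hw.2.2.2.2.2.1) with rfl | rfl | rfl | rfl | rfl
  · exact absurd (h.line_unique l1.swap hw.rot) (by decide)
  · exact absurd (h.line_unique l1.swap.rot hw.rot) (by decide)
  · exact absurd (h.line_unique l2.swap.rot hw.swap.rot) (by decide)
  · exact ⟨32, 48, Or.inl ⟨rfl, rfl⟩, hw.rot.swap, l1, l3⟩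
  · exact ⟨48, 32, Or.inr ⟨rfl, rfl⟩, hw.rot.swap, l1, l3.rot⟩

end CfsgLib.Alt12Inv
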