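import Cfsg.Agent.Alt12Inv.Seven.Node
import Cfsg.Agent.SpSixMult.Weyl
import Cfsg.Agent.S0270

/-!
The subgroup generated by the seven roots is a copy of `Sp₆(2)` containing the centralizer.
-/

set_option autoImplicit false
set_option linter.unusedSectionVars false
set_option linter.style.haveILetI false
set_option maxRecDepth 100000

namespace CfsgLib.Alt12Inv

open Subgroup CfsgLib.SpSixMult

universe u

variable {G : Type u} [Group G] [Finite G] {α : G} {F : Frame α}

/-- The seven roots. -/
def Frame.Node.root {c : Fin 64} (N : F.Node c) : Fin 7 → G :=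
  ![N.t, F.a 2, F.a 3, F.ι (rt 10), F.a 8, F.ι (rt 24), F.a c]

theorem table_facts : ∀ c ∈ ([32, 48] : List (Fin 64)),
    comA 10 2 = false ∧ comA 10 3 = false ∧ comA 10 8 = false ∧ comA 10 c = true ∧ com 10 24 = true ∧
    comA 24 2 = true ∧ comA 24 3 = true ∧ comA 24 8 = false ∧ comA 24 c = false ∧
    rOf c ∈ ([28, 29] : List (Fin 31)) ∧ c ∈ short₇ ∧ Nat.beq c.1 21 = false := by decide +kernel

/-- The data of the copy of the model. -/
structure Frame.Model (F : Frame α) where
  /-- The embedding. -/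
  ψ : CfsgLib.SpPres.Spn (ZMod 2) 3 →* G
  inj : Function.Injective ψ
  le : ∀ g, Commute g α → g ∈ ψ.range
  /-- A member outside the centralizer. -/
  t : G
  t_mem : t ∈ ψ.range
  t_member : IsConj α t
  t_braid : t * α * t = α * t * α
  t_braid3 : t * F.a 3 * t = F.a 3 * t * F.a 3

theorem zmod_two : ∀ x : ZMod 2, x = 0 ∨ x = 1 := by decide

theorem psp_center : center (CfsgLib.SpPres.Spn (ZMod 2) 3) = ⊥ := by
  rw [← Subgroup.card_eq_one, CfsgLib.Symp.card_center, Nat.card_zmod]
  rfl

/-- The model is simple. -/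
theorem spn_simple : IsSimpleGroup (CfsgLib.SpPres.Spn (ZMod 2) 3) := by
  haveI : Fact (Nat.Prime 2) := ⟨Nat.prime_two⟩
  haveI : IsSimpleGroup (Cfsg.PSp 3 (ZMod 2)) :=
    Cfsg.Agent.S0270.result 3 (by norm_num) (by norm_num)
  let e : CfsgLib.SpPres.Spn (ZMod 2) 3 ≃* Cfsg.PSp 3 (ZMod 2) :=
    MulEquiv.ofBijective (QuotientGroup.mk' (center (CfsgLib.SpPres.Spn (ZMod 2) 3)))
      ⟨(MonoidHom.ker_eq_bot_iff _).1 (by rw [QuotientGroup.ker_mk', psp_center]), QuotientGroup.mk'_surjective _⟩
  exact e.isSimpleGroup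

theorem Frame.IsShort.exists_model (h : F.IsShort) : Nonempty F.Model := by
  haveI : Fact (Nat.Prime 2) := ⟨Nat.prime_two⟩
  obtain ⟨c, hc, ⟨N⟩⟩ := h.exists_node
  obtain ⟨n2, n3, n8, y1, y2, y3, y4, n8', nc', hcc, hcs, -⟩ := table_facts c hc
  have m : ∀ {v : Fin 64}, v ∈ short₇ → IsConj α (F.a v) := fun hv => (h _).2 ((short_iff _).2 hv)
  have braidC : ∀ {r : Fin 31} {v : Fin 64}, v ∈ short₇ → comA r v = false →
      F.ι (rt r) * F.a v * F.ι (rt r) = F.a v * F.ι (rt r) * F.a v := fun {r} {v} hv hn =>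
    (h.three (h.rt_member r) (m hv) (IsConj.refl α) (F.comm_centre _) (F.comm_centre _)).resolve_left
      (F.not_comA_base hn)
  have cA : ∀ {r : Fin 31} {v : Fin 64}, comA r v = true → Commute (F.ι (rt r)) (F.a v) :=
    fun hv => (F.comA_iff_base _ _).1 hv
  have sq : ∀ i, N.root i * N.root i = 1 := by
    intro i
    have ht : N.t * N.t = 1 := by
      obtain ⟨g, hg⟩ := isConj_iff.1 N.member
      rw [← hg, show g * α * g⁻¹ * (g * α * g⁻¹) = g * (α * α) * g⁻¹ by group, F.alpha_sq, mul_one,
        mul_inv_cancel]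
    fin_cases i <;>
      first
        | exact ht
        | exact F.a_sq _
        | (show F.ι _ * F.ι _ = 1; rw [← map_mul, rt_sq, map_one])
  have hcomm : ∀ i j, CoxeterMatrix.E₇ i j = 2 → N.root i * N.root j = N.root j * N.root i := by
    have c01 : Commute (F.ι (rt 10)) (F.ι (rt 24)) :=
      (show Commute (rt 10) (rt 24) from com_iff.1 y2).map F.ι
    intro i j hij
    fin_cases i <;> fin_cases j <;>
      first
        | (exfalso; revert hij; decide)
        | exact (F.a_comm _ _).eq
        | exact N.com2.eq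
        | exact N.com2.eq.symm
        | exact N.com8.eq
        | exact N.com8.eq.symm
        | exact N.comc.eq
        | exact N.comc.eq.symm
        | exact N.com10.eq
        | exact N.com10.eq.symm
        | exact N.com24.eq
        | exact N.com24.eq.symm
        | exact c01.eq
        | exact c01.eq.symm
        | exact (cA y1).eq
        | exact (cA y1).eq.symm
        | exact (cA y3).eq
        | exact (cA y3).eq.symm
        | exact (cA y4).eq
        | exact (cA y4).eq.symm
  have hb21 : N.t * α * N.t = α * N.t * α := by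
    have h1 := N.braid21
    rwa [F.a_centre] at h1
  have hbraid : ∀ i j, CoxeterMatrix.E₇ i j = 3 →
      N.root i * N.root j * N.root i = N.root j * N.root i * N.root j := by
    intro i j hij
    fin_cases i <;> fin_cases j <;>
      first
        | (exfalso; revert hij; decide)
        | exact N.braid3
        | exact N.braid3.symm
        | exact braidC (by decide) n2
        | exact (braidC (by decide) n2).symm
        | exact braidC (by decide) n3
        | exact (braidC (by decide) n3).symm
        | exact braidC (by decide) n8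
        | exact (braidC (by decide) n8).symm
        | exact braidC (by decide) n8'
        | exact (braidC (by decide) n8').symm
        | exact braidC hcs nc'
        | exact (braidC hcs nc').symm
  obtain ⟨Φ, hΦ⟩ := SpSixMult.exists_lift N.root sq hcomm hbraid
  have hin : ∀ i, N.root i ∈ Φ.range := fun i => ⟨_, hΦ i⟩
  have hKtop : (Φ.range).comap F.ι = ⊤ := by
    have ha : ∀ {v : Fin 64}, v ∈ short₇ → F.ι (rt (rOf v)) = F.a v := fun hv => by
      rw [rt_eq_aC ((short_iff _).2 hv)]; rfl
    refine chain_closure hcc _ ?_ fun i => ?_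
    · show F.ι (rt (rOf 3)) ∈ Φ.range
      rw [ha (by decide)]; exact hin 2
    · show F.ι (rt (chain (rOf c) i)) ∈ Φ.range
      fin_cases i
      · show F.ι (rt (rOf 2)) ∈ Φ.range
        rw [ha (by decide)]; exact hin 1
      · exact hin 3
      · show F.ι (rt (rOf 8)) ∈ Φ.range
        rw [ha (by decide)]; exact hin 4
      · exact hin 5
      · show F.ι (rt (rOf c)) ∈ Φ.range
        rw [ha hcs]; exact hin 6
  have hle : ∀ g, Commute g α → g ∈ Φ.range := fun g hg => by
    obtain ⟨x, rfl⟩ := F.mem_range.2 hg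
    exact hKtop.ge (mem_top x)
  have h2 := zmod_two
  obtain ⟨φ, hφs, -⟩ := SpSixMult.exists_phi (F := ZMod 2) h2
  have hker : φ.ker ≤ Φ.ker := by
    have hcard : Nat.card φ.ker = 2 := by
      have h1 := φ.ker.card_mul_index
      rw [Subgroup.index_ker, MonoidHom.range_eq_top.2 hφs, Subgroup.card_top, SpSixMult.card_sp6 h2,
        SpSixMult.card_W] at h1
      omega
    intro z hz
    have hzc : ∀ w, w * z * w⁻¹ = z := by
      intro w
      by_cases e : z = 1
      · rw [e, mul_one, mul_inv_cancel]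
      · have hw : w * z * w⁻¹ ∈ φ.ker := (inferInstance : φ.ker.Normal).conj_mem z hz w
        obtain ⟨a, b, -, hab⟩ := Nat.card_eq_two_iff.1 hcard
        have hall : ∀ k : ↥φ.ker, k = 1 ∨ k = ⟨z, hz⟩ := by
          have m1 : (1 : ↥φ.ker) ∈ ({a, b} : Set ↥φ.ker) := hab.symm ▸ Set.mem_univ _
          have m2 : (⟨z, hz⟩ : ↥φ.ker) ∈ ({a, b} : Set ↥φ.ker) := hab.symm ▸ Set.mem_univ _
          have hne : (1 : ↥φ.ker) ≠ ⟨z, hz⟩ := fun h' => e (congrArg Subtype.val h').symm
          intro k
          have mk : k ∈ ({a, b} : Set ↥φ.ker) := hab.symm ▸ Set.mem_univ _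
          simp only [Set.mem_insert_iff, Set.mem_singleton_iff] at m1 m2 mk
          rcases m1 with r1 | r1 <;> rcases m2 with r2 | r2 <;> rcases mk with r3 | r3 <;>
            simp_all
        rcases hall ⟨w * z * w⁻¹, hw⟩ with h' | h'
        · exact absurd (conj_eq_one_iff.1 (congrArg Subtype.val h')) e
        · exact congrArg Subtype.val h'
    have hcomm' : ∀ g ∈ Φ.range, Commute g (Φ z) := by
      rintro _ ⟨w, rfl⟩
      exact (show Commute w z from mul_inv_eq_iff_eq_mul.1 (hzc w)).map Φ
    obtain ⟨x, hx⟩ := (F.mem_range (g := Φ z)).2 (hcomm' α (hle α (Commute.refl α))).symm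
    have hxc : ∀ y, x * y = y * x := fun y => F.inj (by
      rw [map_mul, map_mul, hx]
      exact ((hcomm' _ (hle _ (F.comm_centre y))).eq).symm)
    rw [MonoidHom.mem_ker, ← hx]
    rcases centre_eq hxc with rfl | rfl
    · exact map_one _
    · exfalso
      have e := hcomm' _ (hin 0)
      rw [← hx, F.centre] at e
      have e' : Commute N.t α := e
      have ht2 : N.t * N.t = 1 := sq 0
      have hb : N.t = α := by
        have h1 := hb21
        have l1 : N.t * α * N.t = α := by rw [mul_assoc, ← e'.eq, ← mul_assoc, ht2, one_mul]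
        have l2 : α * N.t * α = N.t := by rw [mul_assoc, e'.eq, ← mul_assoc, F.alpha_sq, one_mul]
        rw [← l2, ← h1, l1]
      have hb3 := N.braid3
      rw [hb.trans F.a_centre.symm, F.a_mul, F.a_mul, F.a_mul, F.a_mul] at hb3
      exact absurd (F.a_injective hb3) (by decide +kernel)
  let ψ : CfsgLib.SpPres.Spn (ZMod 2) 3 →* G := MonoidHom.liftOfSurjective φ hφs ⟨Φ, hker⟩
  have hψ : ∀ w, ψ (φ w) = Φ w := fun w => MonoidHom.liftOfRightInverse_comp_apply φ _ _ ⟨Φ, hker⟩ w
  have hrange : ∀ g, g ∈ Φ.range → g ∈ ψ.range := by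
    rintro _ ⟨w, rfl⟩; exact ⟨φ w, hψ w⟩
  haveI := spn_simple
  have hinj : Function.Injective ψ := by
    rw [← MonoidHom.ker_eq_bot_iff]
    rcases (inferInstance : ψ.ker.Normal).eq_bot_or_eq_top with e | e
    · exact e
    · exfalso
      obtain ⟨y, hy⟩ := hrange α (hle α (Commute.refl α))
      exact F.ne_one (hy ▸ (e.ge (mem_top y) : ψ y = 1))
  exact ⟨⟨ψ, hinj, fun g hg => hrange g (hle g hg), N.t, hrange _ (hin 0), N.member,
    hb21, N.braid3⟩⟩

end CfsgLib.Alt12Inv
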