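import Cfsg.Agent.Alt12Inv.Seven.Members
import Cfsg.Agent.Alt12Inv.Seven.Gens

/-!
The seventh root of the diagram E₇.
-/

set_option autoImplicit false
set_option linter.unusedSectionVars false
set_option linter.style.haveILetI false
set_option maxRecDepth 100000

namespace CfsgLib.Alt12Inv

open Subgroup

universe u

variable {G : Type u} [Group G] [Finite G] {α : G} {F : Frame α}

theorem Frame.comA_iff_base (F : Frame α) (r : Fin 31) (v : Fin 64) :
    comA r v = true ↔ Commute (F.ι (rt r)) (F.a v) := by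
  rw [comA_iff]
  exact ⟨fun e => (show Commute (rt r) (aC v) from e).map F.ι,
    fun e => F.inj (by rw [map_mul, map_mul]; exact e.eq)⟩

theorem Frame.not_comA_base (F : Frame α) {r : Fin 31} {v : Fin 64} (h : comA r v = false) :
    ¬ Commute (F.ι (rt r)) (F.a v) := fun e => by
  rw [(F.comA_iff_base r v).2 e] at h; exact Bool.noConfusion h

theorem Frame.a_comm (F : Frame α) (v w : Fin 64) : Commute (F.a v) (F.a w) := by
  show F.a v * F.a w = F.a w * F.a v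
  rw [F.a_mul, F.a_mul, vadd_symm]

/-- A symmetry bringing two given pairs on lines through a code to standard position. -/
theorem Frame.IsShort.frame_at (h : F.IsShort) {u p q r s : Fin 64} (l : F.Line u p q) (l' : F.Line u r s)
    (hrp : r ≠ p) (hrq : r ≠ q) :
    ∃ σ : F.Sym, σ.s 21 = u ∧ σ.s 2 = p ∧ σ.s 3 = q ∧ σ.s 32 = r ∧ σ.s 48 = s := by
  obtain ⟨σ, hσ⟩ := h.sym_at l.1
  obtain ⟨p₀, hp₀, ep⟩ := h.pre_six σ hσ l.2.1 l.2.2.2.1
  obtain ⟨q₀, hq₀, eq₀⟩ := h.pre_six σ hσ l.2.2.1 l.2.2.2.2.1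
  obtain ⟨r₀, hr₀, er⟩ := h.pre_six σ hσ l'.2.1 l'.2.2.2.1
  obtain ⟨s₀, hs₀, es⟩ := h.pre_six σ hσ l'.2.2.1 l'.2.2.2.2.1
  subst ep eq₀ er es
  obtain ⟨n1, b1⟩ := (h.line_iff σ hσ hp₀ hq₀).1 l
  obtain ⟨n2, b2⟩ := (h.line_iff σ hσ hr₀ hs₀).1 l'
  have hne : blk r₀ ≠ blk p₀ := fun e => hrq (congrArg σ.s
    (partner_unique p₀ hp₀ r₀ hr₀ q₀ hq₀ (fun e' => hrp (congrArg σ.s e').symm) n1 e.symm b1))
  obtain ⟨k, j, e1, e2, e3, e4⟩ := normal_form p₀ hp₀ q₀ hq₀ n1 b1 r₀ hr₀ s₀ hs₀ n2 b2 hne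
  refine ⟨σ.comp ((F.symK k).comp (F.symCyc.pow j.1)), ?_, ?_, ?_, ?_, ?_⟩ <;>
    show σ.s ((F.symK k).s ((F.symCyc.pow j.1).s _)) = _ <;> rw [Frame.Sym.pow_s]
  · rw [← hσ]
    exact congrArg σ.s ((by decide +kernel : ∀ (k : Fin 8) (j : Fin 3), act k (cycCode^[j.1] 21) = 21) k j)
  · exact congrArg σ.s e1
  · exact congrArg σ.s e2
  · exact congrArg σ.s e3
  · exact congrArg σ.s e4

/-- The roots of the diagram E₇ in the group. -/
structure Frame.Node (F : Frame α) (c : Fin 64) where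
  /-- The new root. -/
  t : G
  member : IsConj α t
  com2 : Commute t (F.a 2)
  com8 : Commute t (F.a 8)
  comc : Commute t (F.a c)
  com10 : Commute t (F.ι (rt 10))
  com24 : Commute t (F.ι (rt 24))
  braid3 : t * F.a 3 * t = F.a 3 * t * F.a 3
  braid21 : t * F.a 21 * t = F.a 21 * t * F.a 21

theorem short_facts : Short 21 ∧ Short 2 ∧ Short 3 ∧ Short 8 ∧ Short 32 ∧ Short 48 := by
  unfold Short; decide

theorem side_facts : (∀ c ∈ ([32, 48] : List (Fin 64)), c ≠ 21 ∧ c ≠ 2 ∧ c ≠ 3 ∧ c ≠ 8 ∧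
      comA 24 c = false ∧ comA 10 c = true) ∧
    comA 24 21 = true ∧ comA 24 2 = true ∧ comA 24 3 = true ∧ comA 24 8 = false ∧
    comA 10 21 = true ∧ comA 10 32 = true ∧ comA 10 48 = true ∧ comA 10 2 = false ∧ comA 10 3 = false := by
  decide +kernel

theorem Frame.IsShort.exists_node (h : F.IsShort) :
    ∃ c ∈ ([32, 48] : List (Fin 64)), Nonempty (F.Node c) := by
  obtain ⟨c, c', hcc, lc, l2, l3⟩ := h.exists_third
  obtain ⟨s21, s2, s3, s8, s32, s48⟩ := short_facts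
  obtain ⟨hside, f1, f2, f3, f4, g1, g32, g48, g2, g3⟩ := side_facts
  have hc : c ∈ ([32, 48] : List (Fin 64)) := by
    rcases hcc with ⟨rfl, -⟩ | ⟨rfl, -⟩ <;> simp
  obtain ⟨c21, c2, c3, c8, f5, g4⟩ := hside c hc
  have g5 : comA 10 c' = true := by rcases hcc with ⟨-, rfl⟩ | ⟨-, rfl⟩ <;> assumption
  refine ⟨c, hc, ?_⟩
  -- at the code 2
  obtain ⟨σ, hσ, σ2, σ3, σ32, σ48⟩ := h.frame_at (u := 2) (p := 8) (q := c) (r := 21) (s := 3)
    lc.swap.rot l2.swap (by decide) c21.symm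
  have hm24 : IsConj α (F.ι (rt 24)) := h.rt_member 24
  obtain ⟨r, hr⟩ := h.member_φ σ hσ hm24 ((F.comA_iff_base 24 2).1 f2)
  obtain ⟨t, t2, t3, tr, t32, t48⟩ := node_exists r
    ((σ.comA_iff' r 32).2 (by rw [← hr, σ32]; exact (F.comA_iff_base 24 21).1 f1))
    ((σ.comA_iff' r 48).2 (by rw [← hr, σ48]; exact (F.comA_iff_base 24 3).1 f3))
    (σ.not_comA (by rw [← hr, σ2]; exact F.not_comA_base f4))
  set τ := σ.φ (rt t) with hτdef
  have hτm : IsConj α τ := h.φ_member σ t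
  have c2' : Commute τ (F.a 2) := by
    rw [← hσ, ← σ.φ_a]
    exact (show Commute (rt t) (aC 21) from aC21_comm (rt t)).map σ.φ
  have h8 : Commute τ (F.a 8) := σ2 ▸ (σ.comA_iff' t 2).1 t2
  have hcτ : Commute τ (F.a c) := σ3 ▸ (σ.comA_iff' t 3).1 t3
  have h24 : Commute τ (F.ι (rt 24)) := by rw [hr]; exact (σ.com_iff' t r).1 tr
  have n21 : ¬ Commute τ (F.a 21) := fun e => by
    rw [(σ.comA_iff' t 32).2 (by rw [σ32]; exact e)] at t32; exact Bool.noConfusion t32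
  have n3 : ¬ Commute τ (F.a 3) := fun e => by
    rw [(σ.comA_iff' t 48).2 (by rw [σ48]; exact e)] at t48; exact Bool.noConfusion t48
  have m : ∀ {v : Fin 64}, Short v → IsConj α (F.a v) := fun hv => (h _).2 hv
  have mk : ∀ τ' : G, IsConj α τ' → Commute τ' (F.a 2) → Commute τ' (F.a 8) → Commute τ' (F.a c) →
      Commute τ' (F.ι (rt 10)) → Commute τ' (F.ι (rt 24)) → ¬ Commute τ' (F.a 3) → ¬ Commute τ' (F.a 21) →
      Nonempty (F.Node c) := fun τ' hm h2 h8' hc' h10' h24' hn3 hn21 => ⟨⟨τ', hm, h2, h8', hc', h10', h24',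
    (h.three hm (m s3) (m s2) h2 (F.a_comm 3 2)).resolve_left hn3,
    (h.three hm (m s21) (m s2) h2 (F.a_comm 21 2)).resolve_left hn21⟩⟩
  by_cases h10 : Commute τ (F.ι (rt 10))
  · exact mk τ hτm c2' h8 hcτ h10 h24 n3 n21
  -- at the code c
  obtain ⟨ρ, hρ, ρ2, ρ3, ρ32, ρ48⟩ := h.frame_at (u := c) (p := 2) (q := 8) (r := 21) (s := c')
    lc l3.swap (by decide) (by decide)
  obtain ⟨v, hv, hv3⟩ := h.pre_six ρ hρ s3 c3
  have hv' : v ∈ ([8, 12] : List (Fin 64)) := by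
    have d : ∀ v ∈ six₆, v ≠ 2 → v ≠ 3 → v ≠ 32 → v ≠ 48 → v ∈ ([8, 12] : List (Fin 64)) := by decide +kernel
    have hc'3 : c' ≠ 3 := by rcases hcc with ⟨-, rfl⟩ | ⟨-, rfl⟩ <;> decide
    exact d v hv (fun e => absurd ((e ▸ hv3).symm.trans ρ2) (by decide))
      (fun e => absurd ((e ▸ hv3).symm.trans ρ3) (by decide))
      (fun e => absurd ((e ▸ hv3).symm.trans ρ32) (by decide))
      (fun e => hc'3 ((e ▸ hv3).symm.trans ρ48).symm)
  obtain ⟨t', ht'⟩ := h.member_φ ρ hρ hτm hcτ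
  obtain ⟨r', hr'⟩ := h.member_φ ρ hρ (h.rt_member 10) ((F.comA_iff_base 10 c).1 g4)
  have key := node_swap v hv' t'
    ((ρ.comA_iff' t' 2).2 (by rw [← ht', ρ2]; exact c2'))
    ((ρ.comA_iff' t' 3).2 (by rw [← ht', ρ3]; exact h8))
    (ρ.not_comA (by rw [← ht', ρ32]; exact n21))
    (ρ.not_comA (by rw [← ht', hv3]; exact n3)) r'
    ((ρ.comA_iff' r' 32).2 (by rw [← hr', ρ32]; exact (F.comA_iff_base 10 21).1 g1))
    ((ρ.comA_iff' r' 48).2 (by rw [← hr', ρ48]; exact (F.comA_iff_base 10 c').1 g5))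
    (ρ.not_comA (by rw [← hr', ρ2]; exact F.not_comA_base g2))
    (ρ.not_comA (by rw [← hr', hv3]; exact F.not_comA_base g3))
  rcases key with e | e
  · exact absurd (by rw [ht', hr']; exact (ρ.com_iff' t' r').1 e) h10
  · have e' : Commute (ρ.φ (aC v * rt t' * aC v)) (ρ.φ (rt r')) :=
      (show Commute (aC v * rt t' * aC v) (rt r') from
        Subtype.ext (Equiv.ext fun x => eqFun_iff.1 e x)).map ρ.φ
    rw [map_mul, map_mul, ρ.φ_a, hv3, ← ht', ← hr'] at e'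
    have inv3 : (F.a 3)⁻¹ = F.a 3 := inv_eq_of_mul_eq_one_right (F.a_sq 3)
    set τ' := F.a 3 * τ * F.a 3 with hτ'
    have conj : ∀ {y : G}, Commute y (F.a 3) → (Commute τ' y ↔ Commute τ y) := fun {y} hy => by
      have e1 : τ' = MulAut.conj (F.a 3) τ := by rw [MulAut.conj_apply, inv3]
      have e2 : y = MulAut.conj (F.a 3) y := by rw [MulAut.conj_apply, ← hy.eq, mul_inv_cancel_right]
      constructor
      · intro h1
        rw [e1, e2] at h1
        exact (MulAut.conj (F.a 3)).injective (by rw [map_mul, map_mul]; exact h1.eq)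
      · intro h1
        rw [e1, e2]
        exact h1.map (MulAut.conj (F.a 3)).toMonoidHom
    refine mk τ' (hτm.trans (isConj_iff.2 ⟨F.a 3, by rw [inv3]⟩)) ((conj (F.a_comm 2 3)).2 c2')
      ((conj (F.a_comm 8 3)).2 h8) ((conj (F.a_comm c 3)).2 hcτ) e'
      ((conj ((F.comA_iff_base 24 3).1 f3)).2 h24) (fun e1 => n3 ((conj (Commute.refl _)).1 e1))
      (fun e1 => n21 ((conj (F.a_comm 21 3)).1 e1))

end CfsgLib.Alt12Inv
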